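import Groth.Agent.S0620
import Groth.Agent.Etrest.SHPoint
import Groth.Agent.Etrest.StalkExt

/-!
# Cohomology of `T` and of `T ×_S Spec O^sh_{X,x}`

Let `S = Spec A` be strictly henselian, `f : X ⟶ S`, `x` a point of `X`, `B` a strict henselization of
the local ring of `X` at `x`, the induced `φ : A → B` being local.  If base change by `f` holds for
`R^q g_* F` (`g : T ⟶ S` qcqs), then `H^q(T, F) ≅ H^q(T ×_S Spec B, F)` (an abstract isomorphism).
-/

set_option autoImplicit false
open CategoryTheory CategoryTheory.Limits AlgebraicGeometry Opposite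
universe u

namespace Groth.Agent.Etbc.H190.SmoothCoh

theorem nonempty_H_iso {X T : Scheme.{u}} (A B : Type u) [CommRing A]
    [hA : HenselianLocalRing A] [hsA : IsSepClosed (IsLocalRing.ResidueField A)]
    [CommRing B] [IsLocalRing B] (f : X ⟶ Spec (CommRingCat.of A)) (x : X)
    [Algebra (X.presheaf.stalk x) B] [IsLocalHom (algebraMap (X.presheaf.stalk x) B)]
    [Hensel.IsStrictHenselization (X.presheaf.stalk x) B]
    [IsSepClosed (IsLocalRing.ResidueField B)] (φ : A →+* B) [IsLocalHom φ]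
    (hm : Hens2.specOf X x B ≫ f = Spec.map (CommRingCat.ofHom φ))
    (g : T ⟶ Spec (CommRingCat.of A)) [QuasiCompact g] [QuasiSeparated g] (F : EtCoh.Ab T) (q : ℕ)
    (bc : Nonempty ((EtCoh.pull f).obj ((EtCoh.Rpush g q).obj F) ≅
      (EtCoh.Rpush (pullback.snd g f) q).obj ((EtCoh.pull (pullback.fst g f)).obj F)))
    {P : Scheme.{u}} {a : P ⟶ T} {b : P ⟶ Spec (CommRingCat.of B)}
    (hP : IsPullback a b g (Spec.map (CommRingCat.ofHom φ))) :
    Nonempty (EtCoh.H T F q ≃+ EtCoh.H P ((EtCoh.pull a).obj F) q) := by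
  obtain ⟨bc⟩ := bc
  obtain ⟨i1⟩ := Groth.Agent.S0620.result (pullback.snd g f)
      ((EtCoh.pull (pullback.fst g f)).obj F) x B q
  -- the geometric point of `Spec A`
  let ξ₀ : Spec (CommRingCat.of (IsLocalRing.ResidueField A)) ⟶ Spec (CommRingCat.of A) :=
    Spec.map (CommRingCat.ofHom (IsLocalRing.residue A))
  let ζ : Spec (CommRingCat.of (IsLocalRing.ResidueField B)) ⟶
      Spec (CommRingCat.of (IsLocalRing.ResidueField A)) :=
    Spec.map (CommRingCat.ofHom (IsLocalRing.ResidueField.map φ))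
  have hgeom : Hens2.geomPt X x B ≫ f = ζ ≫ ξ₀ := by
    change (Spec.map (CommRingCat.ofHom (IsLocalRing.residue B)) ≫ Hens2.specOf X x B) ≫ f = _
    rw [Category.assoc, hm, ← Spec.map_comp, ← Spec.map_comp]
    rfl
  let m₀ : Spec (CommRingCat.of A) ⟶ Spec (CommRingCat.of A) := 𝟙 _
  let s' : Spec (CommRingCat.of A) := m₀.base (IsLocalRing.closedPoint A)
  let _ : Algebra ((Spec (CommRingCat.of A)).presheaf.stalk s') A :=
    Groth.Agent.Etrest.SHBase.ptAlgebra m₀
  have hloc' : IsLocalHom (algebraMap ((Spec (CommRingCat.of A)).presheaf.stalk s') A) :=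
    Scheme.isLocalHom_stalkClosedPointTo m₀
  have hSH' : Hensel.IsStrictHenselization ((Spec (CommRingCat.of A)).presheaf.stalk s') A :=
    Groth.Agent.Etrest.SHPoint.isStrictHenselization_of_bijective _ _
      (Groth.Agent.Etrest.SHPoint.bijective_ptAlgebra_id A)
  have hs' : Hens2.specOf (Spec (CommRingCat.of A)) s' A = 𝟙 _ :=
    Groth.Agent.Etrest.SHBase.specOf_ptAlgebra m₀
  obtain ⟨i2⟩ := Groth.Agent.S0620.result g F s' A q
  have hgeom' : Hens2.geomPt (Spec (CommRingCat.of A)) s' A = ξ₀ := by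
    change Spec.map (CommRingCat.ofHom (IsLocalRing.residue A)) ≫ Hens2.specOf _ s' A = _
    rw [hs', Category.comp_id]
  have hiso : IsIso (Hens2.specOf (Spec (CommRingCat.of A)) s' A) := by
    rw [hs']; infer_instance
  have j2 := (Groth.Agent.Etbase.StalkPull.stalkPullIso f (Hens2.geomPt X x B)).app
    ((EtCoh.Rpush g q).obj F)
  have j3 := (Groth.Agent.Etrest.StalkExt.stalkExtIso ξ₀ ζ).app ((EtCoh.Rpush g q).obj F)
  rw [hgeom] at j2
  rw [hgeom'] at i2
  -- all together
  have k1 : AddCommGrpCat.of (EtCoh.H (pullback g (Hens2.specOf (Spec (CommRingCat.of A)) s' A))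
      ((EtCoh.pull (pullback.fst g (Hens2.specOf (Spec (CommRingCat.of A)) s' A))).obj F) q) ≅
      AddCommGrpCat.of (EtCoh.H (pullback (pullback.snd g f) (Hens2.specOf X x B))
        ((EtCoh.pull (pullback.fst (pullback.snd g f) (Hens2.specOf X x B))).obj
          ((EtCoh.pull (pullback.fst g f)).obj F)) q) :=
    i2.symm ≪≫ j3.symm ≪≫ j2 ≪≫ (EtCoh.stalk (Hens2.geomPt X x B)).mapIso bc ≪≫ i1
  have hfi : IsIso (pullback.fst g (Hens2.specOf (Spec (CommRingCat.of A)) s' A)) := inferInstance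
  let k2 := Groth.Agent.Etrest.IsoInv.HIso
    (pullback.fst g (Hens2.specOf (Spec (CommRingCat.of A)) s' A)) F q
  -- identification of the fibre product
  have hP' : IsPullback (pullback.fst (pullback.snd g f) (Hens2.specOf X x B) ≫
      pullback.fst g f) (pullback.snd (pullback.snd g f) (Hens2.specOf X x B))
      g (Spec.map (CommRingCat.ofHom φ)) := by
    have h1 := (IsPullback.of_hasPullback (pullback.snd g f) (Hens2.specOf X x B)).paste_horiz
      (IsPullback.of_hasPullback g f)
    rwa [hm] at h1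
  let w : P ≅ pullback (pullback.snd g f) (Hens2.specOf X x B) := hP.isoIsPullback _ _ hP'
  have hw : w.hom ≫ pullback.fst (pullback.snd g f) (Hens2.specOf X x B) ≫ pullback.fst g f = a :=
    hP.isoIsPullback_hom_fst _ _ hP'
  have k3 := Groth.Agent.Etrest.IsoInv.HIso w.hom
    ((EtCoh.pull (pullback.fst (pullback.snd g f) (Hens2.specOf X x B))).obj
          ((EtCoh.pull (pullback.fst g f)).obj F)) q
  have k4 : EtCoh.H P ((EtCoh.pull w.hom).obj ((EtCoh.pull (pullback.fst (pullback.snd g f)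
      (Hens2.specOf X x B))).obj ((EtCoh.pull (pullback.fst g f)).obj F))) q ≃+
      EtCoh.H P ((EtCoh.pull a).obj F) q :=
    Groth.Agent.Etrest.IsoInv.HCongr
      ((EtCoh.pull w.hom).mapIso ((EtCore.pullComp _ _).symm.app F) ≪≫
        (EtCore.pullComp _ _).symm.app F ≪≫ (EtCore.pullCongr hw).app F) q
  exact ⟨k2.trans (k1.addCommGroupIsoToAddEquiv.trans (k3.trans k4))⟩

end Groth.Agent.Etbc.H190.SmoothCoh
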