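import Groth.Agent.Etbc.H190.Pointwise
import Groth.Agent.Etbc.H190.SmoothCoh
import Groth.Agent.Etcore.FieldExt82
import Groth.Agent.Etcore.Torsion
import Groth.Prelude.Def_PBC
import Groth.Prelude.Def_EtAcyc

/-!
# Base change implies local acyclicity

Let `S = Spec A` be strictly henselian, `f : X ⟶ S`, `x` a point of `X`, `B` a strict henselization of the
local ring at `x` such that the induced map `φ : A → B` is local.  `BCAt g F f` (of `Etcore.FieldExt82`)
says that the formation of `R^q g_* F` commutes with base change by `f` (abstractly for every `q`, and via the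
canonical map for `q = 0`).

* `bijAt_unit`, `nonempty_H_iso`: for one qcqs `g : T ⟶ S` and one `F` on `T` with `BCAt g F f`, with
  `P = T ×_S Spec B`: `Γ(T, F) → Γ(P, F_P)` is bijective and `H^q(T, F) ≅ H^q(P, F_P)`.
* `Hpull_bijective`: for `v : V ⟶ S` and `F` on `V` such that `BCAt (t ≫ v) (t^* F) f` for all `t : T ⟶ V` with
  `T` affine: `H^q(V, F) → H^q(V ×_S Spec B, F)` (the map `EtCore.Hpull`) is bijective for all `q`.
* `isAcyclic_of_bc`, `onStrictLocalizations_of_bc`: the consequences for `EtAcyc.IsAcyclic` and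
  `EtAcyc.IsLocAcyclic`.
-/

set_option autoImplicit false
universe u
open CategoryTheory CategoryTheory.Limits AlgebraicGeometry Opposite

namespace Groth.Agent.Etbc.H190.LocAcyc

open EtCoh Groth.Agent.EtpbcB Groth.Agent.EtpbcB.BCIso
  Groth.Agent.EtpbcB.StrictLoc Groth.Agent.Etbc.H190.UnitTools Groth.Agent.Etcore.FieldExt82

section point

variable {X : Scheme.{u}} {A B : Type u} [CommRing A]
    [hA : HenselianLocalRing A] [hsA : IsSepClosed (IsLocalRing.ResidueField A)]
    [CommRing B] [hB : HenselianLocalRing B]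
    [hsB : IsSepClosed (IsLocalRing.ResidueField B)]
    {f : X ⟶ Spec (CommRingCat.of A)} (x : X)
    [Algebra (X.presheaf.stalk x) B] [IsLocalHom (algebraMap (X.presheaf.stalk x) B)]
    [Hensel.IsStrictHenselization (X.presheaf.stalk x) B]
    (φ : A →+* B) [IsLocalHom φ]
    (hm : Hens2.specOf X x B ≫ f = Spec.map (CommRingCat.ofHom φ))

include hm in
/-- Bijectivity of the unit on global sections. -/
theorem bijAt_unit {T P : Scheme.{u}} (g : T ⟶ Spec (CommRingCat.of A)) [QuasiCompact g]
    [QuasiSeparated g] (F : Ab T) (hf : BCAt g F f)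
    {a : P ⟶ T} {b : P ⟶ Spec (CommRingCat.of B)}
    (hP : IsPullback a b g (Spec.map (CommRingCat.ofHom φ))) :
    BijAt ((pullPushAdj a).unit.app F) (top T) := by
  refine bijAt_unit_of_baseChange0 hP.w F (UB_of_local φ _) ?_
  -- `P = (T ×_S X) ×_X Spec B`
  have h0 := (hf (pullback.snd g f) (pullback.fst g f) (IsPullback.of_hasPullback g f)).2
  generalize hmm : Spec.map (CommRingCat.ofHom φ) = m at hP hm
  subst hm
  have h2 : IsPullback (pullback.lift a (b ≫ Hens2.specOf X x B) (by
      rw [Category.assoc]; exact hP.w)) b (pullback.snd g f) (Hens2.specOf X x B) :=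
    IsPullback.of_right (by rw [pullback.lift_fst]; exact hP) (pullback.lift_snd _ _ _)
      (IsPullback.of_hasPullback g f)
  have hw : (pullback.lift a (b ≫ Hens2.specOf X x B) (by
      rw [Category.assoc]; exact hP.w) ≫ pullback.fst g f) ≫ g = b ≫ Hens2.specOf X x B ≫ f := by
    rw [pullback.lift_fst]; exact hP.w
  have key := bijAt_hpaste pullback.condition h2.w hw F
    (bijAt_of_isIso _ _) (baseChange0_specOf_bijAt_top (pullback.snd g f) x B h2 _)
  have e3 : pullback.lift a (b ≫ Hens2.specOf X x B) (by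
      rw [Category.assoc]; exact hP.w) ≫ pullback.fst g f = a := pullback.lift_fst _ _ _
  revert key hw
  rw [e3]
  exact fun _ k => k

include hm in
/-- Invariance of cohomology (abstract isomorphisms). -/
theorem nonempty_H_iso {T P : Scheme.{u}} (g : T ⟶ Spec (CommRingCat.of A)) [QuasiCompact g]
    [QuasiSeparated g] (F : Ab T) (hf : BCAt g F f)
    {a : P ⟶ T} {b : P ⟶ Spec (CommRingCat.of B)}
    (hP : IsPullback a b g (Spec.map (CommRingCat.ofHom φ))) (q : ℕ) :
    Nonempty (EtCoh.H T F q ≃+ EtCoh.H P ((EtCoh.pull a).obj F) q) :=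
  SmoothCoh.nonempty_H_iso A B f x φ hm g F q
    ((hf (pullback.snd g f) (pullback.fst g f) (IsPullback.of_hasPullback g f)).1 q) hP

include hm in
/-- Cohomology comparison for a scheme `V` over `Spec A` and a sheaf `F` on `V`. -/
theorem Hpull_bijective {V V' : Scheme.{u}} (v : V ⟶ Spec (CommRingCat.of A)) (F : Ab V)
    (hf : ∀ ⦃T : Scheme.{u}⦄ (t : T ⟶ V) [IsAffine T], BCAt (t ≫ v) ((pull t).obj F) f)
    {p : V' ⟶ V} {b : V' ⟶ Spec (CommRingCat.of B)}
    (hP : IsPullback p b v (Spec.map (CommRingCat.ofHom φ))) [PreservesFiniteLimits (pull p)]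
    (n : ℕ) : Function.Bijective (EtCore.Hpull p F n) := by
  have : IsAffineHom p := MorphismProperty.of_isPullback hP.flip inferInstance
  refine Pointwise.Hpull_bijective_of_pointwise p F ?_ n
  intro Ω _ _ η P a c hc
  have hT : IsPullback a (c ≫ b) (toBase η ≫ v) (Spec.map (CommRingCat.ofHom φ)) :=
    hc.flip.paste_vert hP
  have hFT := hf (toBase η)
  refine ⟨bijAt_unit x φ hm (toBase η ≫ v) _ hFT hT, fun q hq => ?_⟩
  obtain ⟨e⟩ := nonempty_H_iso x φ hm (toBase η ≫ v) _ hFT hT q
  have h1 : Subsingleton (EtCoh.H (Spec (Osh η)) ((pull (toBase η)).obj F) q) :=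
    @Groth.Agent.S0073.result (Osh η) _ (henselianLocalRing η) (isSepClosed_residueField η) _ q hq
  exact e.symm.toEquiv.subsingleton

include hm in
/-- Base change by `f` implies acyclicity of `Spec B ⟶ Spec A`. -/
theorem isAcyclic_of_bc (L : Set ℕ)
    (hf : ∀ ⦃T : Scheme.{u}⦄ (t : T ⟶ Spec (CommRingCat.of A)) [IsAffine T] (F : Ab T),
      EtAcyc.IsLTorsion L F → BCAt t F f)
    (hpull : ∀ ⦃T V : Scheme.{u}⦄ (t : T ⟶ V) (F : Ab V), EtAcyc.IsLTorsion L F →
      EtAcyc.IsLTorsion L ((pull t).obj F)) :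
    EtAcyc.IsAcyclic (Spec.map (CommRingCat.ofHom φ)) L := by
  intro n V F hF hpl
  have key := fun q => Hpull_bijective x φ hm V.hom F
    (fun T t _ => hf (t ≫ V.hom) _ (hpull t F hF))
    (IsPullback.of_hasPullback V.hom (Spec.map (CommRingCat.ofHom φ))) q
  exact ⟨fun q _ => key q, (key (n + 1)).1⟩

end point

/-- `L`-torsion is preserved by pullback. -/
theorem isLTorsion_pull {L : Set ℕ} {T V : Scheme.{u}} (t : T ⟶ V) (F : Ab V)
    (hF : EtAcyc.IsLTorsion L F) : EtAcyc.IsLTorsion L ((pull t).obj F) := by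
  unfold EtAcyc.IsLTorsion at hF ⊢
  rw [Etcore.Torsion.local_iff_stalk (EtAcyc.PrimesIn L)] at hF ⊢
  exact Etcore.Torsion.stalk_prop_pull _ t F hF

/-- `L`-torsion sheaves over `Spec A` for a set `L` of primes that are invertible in `A`. -/
theorem isTorsionInvertibleOn_of_isLTorsion {A : Type u} [CommRing A] {L : Set ℕ}
    (hL : ∀ ℓ ∈ L, IsUnit (ℓ : A)) {V : Scheme.{u}} {F : Ab V} (hF : EtAcyc.IsLTorsion L F) :
    EtPBC.IsTorsionInvertibleOn (Spec (CommRingCat.of A)) F := by
  have hm : ∀ m : ℕ, 0 < m → (∀ p : ℕ, p.Prime → p ∣ m → p ∈ L) → IsUnit (m : A) := by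
    intro m
    induction m using Nat.recOnMul with
    | zero => intro h; omega
    | one => intro _ _; simp
    | prime p hp => intro _ h; exact hL p (h p hp dvd_rfl)
    | mul a b ha hb =>
      intro hm h
      rw [Nat.cast_mul]
      exact (ha (Nat.pos_of_ne_zero fun h0 => by simp [h0] at hm)
        fun p hp hd => h p hp (hd.mul_right b)).mul
        (hb (Nat.pos_of_ne_zero fun h0 => by simp [h0] at hm)
          fun p hp hd => h p hp (hd.mul_left a))
  intro U s x
  obtain ⟨W, g, m, hw, h1, h2⟩ := hF U s x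
  refine ⟨W, g, m, hw, ?_, h2⟩
  have h3 := (hm m h1.1 h1.2).map (Scheme.ΓSpecIso (CommRingCat.of A)).inv.hom
  rwa [map_natCast] at h3

/-- Reduction of local acyclicity to base change along the pullbacks `X ×_Y Spec R_Y ⟶ Spec R_Y` to the strict
localizations of `Y`. -/
theorem isLocAcyclic_of_bc {X Y : Scheme.{u}} (g : X ⟶ Y) (L : Set ℕ)
    (H : ∀ (x : X) (A : Type u) [CommRing A] [HenselianLocalRing A]
      [IsSepClosed (IsLocalRing.ResidueField A)]
      [Algebra (Y.presheaf.stalk (g.base x)) A]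
      [IsLocalHom (algebraMap (Y.presheaf.stalk (g.base x)) A)]
      [Hensel.IsStrictHenselization (Y.presheaf.stalk (g.base x)) A] ⦃T : Scheme.{u}⦄
      (t : T ⟶ Spec (CommRingCat.of A)) [IsAffine T] (F : Ab T), EtAcyc.IsLTorsion L F →
      BCAt t F (pullback.snd g (Hens2.specOf Y (g.base x) A))) :
    EtAcyc.IsLocAcyclic g L := by
  intro n x RY RX _ _ _ _ _ _ hRY _ _ hRX _ _ hc
  have hX : HenselianLocalRing RX := hRX.henselian
  have hY : HenselianLocalRing RY := hRY.henselian
  let s₁ : Spec (CommRingCat.of RY) ⟶ Y := Hens2.specOf Y (g.base x) RY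
  let X' : Scheme.{u} := pullback g s₁
  let p : X' ⟶ X := pullback.fst g s₁
  let f' : X' ⟶ Spec (CommRingCat.of RY) := pullback.snd g s₁
  have hpb : IsPullback p f' g s₁ := IsPullback.of_hasPullback g s₁
  let m : Spec (CommRingCat.of RX) ⟶ X' := pullback.lift (Hens2.specOf X x RX)
    (Spec.map (CommRingCat.ofHom (algebraMap RY RX)))
    (Groth.Agent.Etrest.SHBase.specOf_comp g x hc)
  have hm1 : m ≫ p = Hens2.specOf X x RX := pullback.lift_fst _ _ _
  have hm2 : m ≫ f' = Spec.map (CommRingCat.ofHom (algebraMap RY RX)) := pullback.lift_snd _ _ _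
  let x' : X' := m.base (IsLocalRing.closedPoint RX)
  let _ : Algebra (X'.presheaf.stalk x') RX := Groth.Agent.Etrest.SHBase.ptAlgebra m
  have hloc : IsLocalHom (algebraMap (X'.presheaf.stalk x') RX) :=
    Scheme.isLocalHom_stalkClosedPointTo m
  have hm : Hens2.specOf X' x' RX = m := Groth.Agent.Etrest.SHBase.specOf_ptAlgebra m
  have hSH : Hensel.IsStrictHenselization (X'.presheaf.stalk x') RX :=
    Groth.Agent.Etrest.SHBase.isStrictHenselization_of_isPullback g x hc p f' hpb
      (by rw [hm]; exact hm1) (by rw [hm]; exact hm2)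
  have hsepX : IsSepClosed (IsLocalRing.ResidueField RX) := hSH.isSepClosure.sep_closed
  have hsepS : IsSepClosed (IsLocalRing.ResidueField RY) := hRY.isSepClosure.sep_closed
  exact isAcyclic_of_bc (f := f') x' (algebraMap RY RX) (by rw [hm]; exact hm2) L
    (fun T t _ F hF => H x RY t F hF) (fun T V t F hF => isLTorsion_pull t F hF) n

end Groth.Agent.Etbc.H190.LocAcyc
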