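import Groth.Agent.Etbc.H190.UnitTools
import Groth.Agent.Etcore.StalkLimN
import Groth.Agent.Etrest.IsoInv
import Groth.Agent.Etrest.HpullAcyc

/-!
# Comparison of cohomology along a qcqs morphism, pointwise on the target

`Hpull_bijective_of_pointwise`: let `p : V' ⟶ V` be qcqs and `F` an abelian sheaf on `V`.  Suppose that for
every geometric point `η` of `V`, with `T = Spec O^sh_{V,η}` and `P = T ×_V V'`, the sheaf `F_T` has
bijective unit on global sections and `H^q(P, F_P) = 0` for `q > 0`.  Then `Hpull p F q` is bijective for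
all `q` (moreover the unit of `F` is an isomorphism and `R^q p_* p^* F = 0` for `q > 0`).
-/

set_option autoImplicit false
universe u
open CategoryTheory CategoryTheory.Limits AlgebraicGeometry Opposite

namespace Groth.Agent.Etbc.H190.Pointwise

open EtCoh Groth.Agent.EtpbcB Groth.Agent.EtpbcB.BCCalc Groth.Agent.EtpbcB.BCIso
  Groth.Agent.EtpbcB.StrictLoc Groth.Agent.Etbc.H190.UnitTools

variable {V V' : Scheme.{u}} (p : V' ⟶ V) [QuasiCompact p] [QuasiSeparated p] (F : Ab V)
  {Ω : Type u} [Field Ω] [IsSepClosed Ω] (η : Spec (CommRingCat.of Ω) ⟶ V)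
  {P : Scheme.{u}} {a : P ⟶ Spec (Osh η)} {b : P ⟶ V'} (h : IsPullback b a p (toBase η))

include h in
/-- The unit is an isomorphism at a geometric point if it is bijective on global sections after
base change to the strict localization. -/
theorem isIso_pull_unit
    (h0 : BijAt ((pullPushAdj a).unit.app ((pull (toBase η)).obj F)) (top _)) :
    IsIso ((pull η).map ((pullPushAdj p).unit.app F)) := by
  have h1 : BijAt ((pull (toBase η)).map ((pullPushAdj p).unit.app F)) (top _) := by
    refine bijAt_of_comp_right _ (baseChange0 p (toBase η) a b h.w ((pull p).obj F)) _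
      (StrictLocStar.bijAt_top η p h _) ?_
    rw [Groth.Agent.EtpbcA.LA.pull_unit_baseChange0 h.w F]
    exact bijAt_comp _ _ _ h0 (bijAt_of_isIso _ _)
  have h2 := StrictLocStar.isIso_pull_pt η _ h1
  have e : pull η ≅ pull (toBase η) ⋙ pull (pt η) :=
    (pullCongr (pt_toBase η)).symm ≪≫ (pullComp (toBase η) (pt η)).symm
  rw [NatIso.isIso_map_iff e]
  exact h2

include h in
theorem isZero_stalk_Rpush (q : ℕ)
    (hq : Subsingleton (EtCoh.H P ((pull a).obj ((pull (toBase η)).obj F)) q)) :
    IsZero ((stalk η).obj ((Rpush p q).obj ((pull p).obj F))) := by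
  obtain ⟨e⟩ := Etcore.StalkLimN.nonempty_stalk_Rpush_iso p η h ((pull p).obj F) q
  have k : EtCoh.H P ((pull b).obj ((pull p).obj F)) q ≃+
      EtCoh.H P ((pull a).obj ((pull (toBase η)).obj F)) q :=
    Groth.Agent.Etrest.IsoInv.HCongr ((pullComp p b).app F ≪≫ (pullCongr h.w).app F ≪≫
      (pullComp (toBase η) a).symm.app F) q
  have h1 : Subsingleton (EtCoh.H P ((pull b).obj ((pull p).obj F)) q) := k.toEquiv.subsingleton
  exact (@AddCommGrpCat.isZero_of_subsingleton _ h1).of_iso e

omit h

/-- The unit is an isomorphism if this holds pointwise. -/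
theorem isIso_unit_of_pointwise
    (H : ∀ (Ω : Type u) [Field Ω] [IsSepClosed Ω] (η : Spec (CommRingCat.of Ω) ⟶ V)
      {P : Scheme.{u}} {a : P ⟶ Spec (Osh η)} {b : P ⟶ V'} (_ : IsPullback b a p (toBase η)),
      BijAt ((pullPushAdj a).unit.app ((pull (toBase η)).obj F)) (top _)) :
    IsIso ((pullPushAdj p).unit.app F) :=
  isIso_of_isIso_pull _ fun Ω _ _ η => isIso_pull_unit p F η
    (IsPullback.of_hasPullback p (toBase η)) (H Ω η (IsPullback.of_hasPullback p (toBase η)))

/-- Vanishing of higher direct images, pointwise. -/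
theorem isZero_Rpush_of_pointwise (q : ℕ)
    (H : ∀ (Ω : Type u) [Field Ω] [IsSepClosed Ω] (η : Spec (CommRingCat.of Ω) ⟶ V)
      {P : Scheme.{u}} {a : P ⟶ Spec (Osh η)} {b : P ⟶ V'} (_ : IsPullback b a p (toBase η)),
      Subsingleton (EtCoh.H P ((pull a).obj ((pull (toBase η)).obj F)) q)) :
    IsZero ((Rpush p q).obj ((pull p).obj F)) :=
  (Etcore.Stalks.isZero_iff_stalks _).2 fun Ω _ _ η => isZero_stalk_Rpush p F η
    (IsPullback.of_hasPullback p (toBase η)) q
    (H Ω η (IsPullback.of_hasPullback p (toBase η)))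

theorem Hpull_bijective_of_pointwise [PreservesFiniteLimits (pull p)]
    (H : ∀ (Ω : Type u) [Field Ω] [IsSepClosed Ω] (η : Spec (CommRingCat.of Ω) ⟶ V)
      {P : Scheme.{u}} {a : P ⟶ Spec (Osh η)} {b : P ⟶ V'} (_ : IsPullback b a p (toBase η)),
      BijAt ((pullPushAdj a).unit.app ((pull (toBase η)).obj F)) (top _) ∧
        ∀ q : ℕ, 0 < q → Subsingleton (EtCoh.H P ((pull a).obj ((pull (toBase η)).obj F)) q))
    (n : ℕ) : Function.Bijective (EtCore.Hpull p F n) :=
  Groth.Agent.Etrest.HpullAcyc.Hpull_bijective p F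
    (isIso_unit_of_pointwise p F fun Ω _ _ η _ _ _ h => (H Ω η h).1)
    (fun q hq => isZero_Rpush_of_pointwise p F q fun Ω _ _ η _ _ _ h => (H Ω η h).2 q hq) n

end Groth.Agent.Etbc.H190.Pointwise
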