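import Groth.Agent.EtpbcA.LAUnit
import Groth.Agent.S0620

/-!
# Units of `f^* ⊣ f_*` on global sections: strictly local bases

* `bijAt_of_comp_right` : cancellation on the right;
* `UB_of_local` : for a local homomorphism `φ` of strictly henselian local rings, the unit of
  `Spec φ` is bijective on global sections;
* `bijAt_pull_of_isIso` : pulling back along an isomorphism preserves bijectivity on global sections;
* `baseChange0_specOf_bijAt_top` : for `f` qcqs, base change along a strict localization
  `Hens2.specOf X x R` is bijective on global sections;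
* `bijAt_unit_of_baseChange0` : in a cartesian square `a, b, g, h` with unit of `h` and
  `baseChange0` bijective on global sections, the unit of `a` is bijective on global sections.
-/

set_option autoImplicit false
universe u
open CategoryTheory CategoryTheory.Limits AlgebraicGeometry Opposite

namespace Groth.Agent.Etbc.H190.UnitTools

open EtCoh Groth.Agent.EtpbcB Groth.Agent.EtpbcB.BCCalc Groth.Agent.EtpbcB.BCIso
  Groth.Agent.EtpbcB.StrictLoc

variable {X Y Z : Scheme.{u}}

lemma bijAt_of_comp_right {F G H : Ab X} (φ : F ⟶ G) (ψ : G ⟶ H) (U : X.Etale) (h₁ : BijAt ψ U)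
    (h₂ : BijAt (φ ≫ ψ) U) : BijAt φ U := by
  rw [bijAt_iff_isIso] at *
  have : IsIso (φ.hom.app (op U) ≫ ψ.hom.app (op U)) := h₂
  exact IsIso.of_isIso_comp_right _ (ψ.hom.app (op U))

/-- If the units of `g ≫ f` and `g` are bijective on global sections, so is the unit of `f`. -/
lemma bijAt_unit_of_comp (f : X ⟶ Y) (g : Z ⟶ X) (G : Ab Y)
    (h₁ : BijAt ((pullPushAdj (g ≫ f)).unit.app G) (top Y))
    (h₂ : BijAt ((pullPushAdj g).unit.app ((pull f).obj G)) (top X)) :
    BijAt ((pullPushAdj f).unit.app G) (top Y) := by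
  rw [unit_pullComp] at h₁
  refine bijAt_of_comp_right _ _ _ ?_ h₁
  refine bijAt_comp _ _ _ ?_ (bijAt_comp _ _ _ ?_ ?_)
  · rw [bijAt_push_top]; exact h₂
  · exact bijAt_of_isIso _ _
  · exact bijAt_of_isIso _ _

/-- For a local homomorphism of strictly henselian local rings the unit is bijective on global
sections. -/
theorem UB_of_local {A B : Type u} [CommRing A] [HenselianLocalRing A]
    [IsSepClosed (IsLocalRing.ResidueField A)] [CommRing B] [HenselianLocalRing B]
    [IsSepClosed (IsLocalRing.ResidueField B)] (φ : A →+* B) [IsLocalHom φ] :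
    UB (Spec.map (CommRingCat.ofHom φ)) := by
  intro G
  let p : Spec (CommRingCat.of (IsLocalRing.ResidueField B)) ⟶ Spec (CommRingCat.of B) :=
    Spec.map (CommRingCat.ofHom (IsLocalRing.residue B))
  have hp : p default = IsLocalRing.closedPoint B := by
    have h0 : ∀ y : PrimeSpectrum (IsLocalRing.ResidueField B),
        PrimeSpectrum.comap (IsLocalRing.residue B) y = IsLocalRing.closedPoint B := by
      intro y
      apply PrimeSpectrum.ext
      have h3 : y.asIdeal = ⊥ := y.asIdeal.eq_bot_of_prime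
      rw [PrimeSpectrum.comap_asIdeal, h3]
      exact IsLocalRing.ker_residue
    exact h0 (show PrimeSpectrum (IsLocalRing.ResidueField B) from
      (default : ↥(Spec (CommRingCat.of (IsLocalRing.ResidueField B)))))
  have hp' : (p ≫ Spec.map (CommRingCat.ofHom φ)) default = IsLocalRing.closedPoint A := by
    rw [Scheme.Hom.comp_apply, hp]
    exact IsLocalRing.comap_closedPoint φ
  exact bijAt_unit_of_comp _ p G (StrictLocStar.UB_closed _ hp' G) (StrictLocStar.UB_closed p hp _)

/-- Pulling back along an isomorphism preserves bijectivity on global sections. -/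
theorem bijAt_pull_of_isIso (e : X ⟶ Y) [IsIso e] {F G : Ab Y} (φ : F ⟶ G) (h : BijAt φ (top Y)) :
    BijAt ((pull e).map φ) (top X) := by
  rw [← bijAt_push_top e]
  refine bijAt_of_comp_left _ _ _ (UB.of_isIso e F) ?_
  have h1 := (pullPushAdj e).unit.naturality φ
  refine (congrArg (fun ψ => BijAt ψ (top Y)) h1).mp ?_
  exact bijAt_comp _ _ _ h (UB.of_isIso e G)

section hpaste

variable {X' Y' X'' Y'' : Scheme.{u}} {f : X ⟶ Y} {g : Y' ⟶ Y} {f' : X' ⟶ Y'} {g' : X' ⟶ X}
  {f'' : X'' ⟶ Y''} {h : Y'' ⟶ Y'} {h' : X'' ⟶ X'}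

/-- Horizontal pasting of bijectivity on global sections. -/
lemma bijAt_hpaste (w₁ : g' ≫ f = f' ≫ g) (w₂ : h' ≫ f' = f'' ≫ h)
    (w : (h' ≫ g') ≫ f = f'' ≫ (h ≫ g)) (F : Ab X)
    (i₁ : BijAt ((pull h).map (baseChange0 f g f' g' w₁ F)) (top Y''))
    (i₂ : BijAt (baseChange0 f' h f'' h' w₂ ((pull g').obj F)) (top Y'')) :
    BijAt (baseChange0 f (h ≫ g) f'' (h' ≫ g') w F) (top Y'') := by
  have e := baseChange0_hpaste w₁ w₂ w F
  refine bijAt_of_comp_left ((pullComp g h).hom.app ((push f).obj F)) _ _
    (bijAt_of_isIso _ _) ?_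
  rw [e]
  exact bijAt_comp _ _ _ i₁ (bijAt_comp _ _ _ i₂ (bijAt_of_isIso _ _))

end hpaste

/-- Base change along a strict localization is bijective on global sections. -/
theorem baseChange0_specOf_bijAt_top {X Y : Scheme.{u}} (f : X ⟶ Y) [QuasiCompact f]
    [QuasiSeparated f] (y : Y) (R : Type u) [CommRing R] [IsLocalRing R]
    [Algebra (Y.presheaf.stalk y) R] [IsLocalHom (algebraMap (Y.presheaf.stalk y) R)]
    [Hensel.IsStrictHenselization (Y.presheaf.stalk y) R]
    [IsSepClosed (IsLocalRing.ResidueField R)] {P : Scheme.{u}} {a : P ⟶ X}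
    {b : P ⟶ Spec (CommRingCat.of R)} (h : IsPullback a b f (Hens2.specOf Y y R)) (F : Ab X) :
    BijAt (baseChange0 f (Hens2.specOf Y y R) b a h.w F) (top _) := by
  obtain ⟨e, he, he'⟩ := Groth.Agent.S0620.exists_iso Y y R
  generalize hm : Hens2.specOf Y y R = m at h he'
  subst he'
  have h2 := IsPullback.of_hasPullback f (toBase (Hens2.geomPt Y y R))
  have h1 : IsPullback (h2.lift a (b ≫ e) (by rw [Category.assoc]; exact h.w)) b
      (pullback.snd f (toBase (Hens2.geomPt Y y R))) e :=
    IsPullback.of_right (by rw [h2.lift_fst]; exact h) (h2.lift_snd _ _ _) h2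
  have hw : (h2.lift a (b ≫ e) (by rw [Category.assoc]; exact h.w) ≫
      pullback.fst f (toBase (Hens2.geomPt Y y R))) ≫ f = b ≫ e ≫ toBase (Hens2.geomPt Y y R) := by
    rw [h2.lift_fst]; exact h.w
  have key := bijAt_hpaste h2.w h1.w hw F
    (bijAt_pull_of_isIso e _ (StrictLocStar.bijAt_top _ f h2 F))
    (baseChange0_bijAt_top h1.w _ (UB.of_isIso e _) (by
      have : IsIso (h2.lift a (b ≫ e) (by rw [Category.assoc]; exact h.w)) :=
        (MorphismProperty.isomorphisms.iff _).1 (MorphismProperty.of_isPullback h1.flip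
          ((MorphismProperty.isomorphisms.iff _).2 he))
      exact UB.of_isIso _ _))
  have e3 : h2.lift a (b ≫ e) (by rw [Category.assoc]; exact h.w) ≫
      pullback.fst f (toBase (Hens2.geomPt Y y R)) = a := h2.lift_fst _ _ _
  revert key hw
  rw [e3]
  exact fun _ k => k

/-- The unit of the base change of `h`, from base change and the unit of `h`. -/
theorem bijAt_unit_of_baseChange0 {P T S B : Scheme.{u}} {a : P ⟶ T} {b : P ⟶ B} {g : T ⟶ S}
    {h : B ⟶ S} (w : a ≫ g = b ≫ h) (F : Ab T) (hU : BijAt ((pullPushAdj h).unit.app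
      ((push g).obj F)) (top S)) (hbc : BijAt (baseChange0 g h b a w F) (top B)) :
    BijAt ((pullPushAdj a).unit.app F) (top T) := by
  have e := unit_baseChange0 w F
  rw [← bijAt_push_top g]
  refine bijAt_of_comp_right _ ((sq w).hom.app ((pull a).obj F)) _ (bijAt_of_isIso _ _) ?_
  rw [← e]
  refine bijAt_comp _ _ _ hU ?_
  rw [bijAt_push_top]
  exact hbc

end Groth.Agent.Etbc.H190.UnitTools
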